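import Cfsg.Agent.TH.Ex.R1.ReeA
import Cfsg.Agent.TH.Sv.TriE
import Cfsg.Agent.TH.Cl.Cases.Sim
import Cfsg.Agent.S1156
import Cfsg.Agent.S1158
import Cfsg.Agent.S1159
import Cfsg.Agent.S2358

/-!
# S3541: the box of the small Ree groups (helper93)
-/

set_option autoImplicit false
set_option linter.unusedSectionVars false

namespace Cfsg.Agent.TH.Ex.R1

open Subgroup Cfsg.Lie Cfsg.Agent.H963.ReeCtx Cfsg.Agent.H963.ReeSep

/-- the normalisers of the subgroups of prime exponent `r ≥ 5` -/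
def Nrm (K : Type) [Group K] (q s : ℕ) : Prop :=
  ∀ (E : Subgroup K) (r : ℕ), r.Prime → 5 ≤ r → E ≠ ⊥ → (∀ x ∈ E, x ^ r = 1) →
    Nat.card (normalizer (E : Set K)) = 2 * (q - 1) ∨ Nat.card (normalizer (E : Set K)) = 6 * (q + 1) ∨
      Nat.card (normalizer (E : Set K)) = 6 * (q - s + 1) ∨ Nat.card (normalizer (E : Set K)) = 6 * (q + s + 1)

theorem Nrm.of_equiv {K M : Type} [Group K] [Group M] {q s : ℕ} (e : K ≃* M) (h : Nrm M q s) : Nrm K q s := by
  intro E r hr h5 h0 hE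
  have h1 := h (E.map e.toMonoidHom) r hr h5 (fun h2 => h0 ((map_eq_bot_iff_of_injective _ e.injective).1 h2)) (by
    rintro _ ⟨x, hx, rfl⟩
    rw [← map_pow, hE x hx, map_one])
  rwa [← H963.ReeFive.map_normalizer, H963.ReeFive.card_map_equiv] at h1

theorem nrm_model {F : Type} [Field F] [Fintype F] {m : ℕ} (hm : 1 ≤ m) (hF : Fintype.card F = 3 ^ (2 * m + 1)) :
    Nrm ↥(twistedG2 F (3 ^ m)) (3 ^ (2 * m + 1)) (3 ^ (m + 1)) := by
  intro E r hr h5 h0 hE
  have hfin := H125.TwoRee.finite_ree hm hF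
  have fr : Fact r.Prime := ⟨hr⟩
  have hp : IsPGroup r E := fun x => ⟨1, Subtype.ext (by simpa using hE x x.2)⟩
  obtain ⟨P, hP⟩ := hp.exists_le_sylow
  have hPc := S1156.result hm hF (by omega) P
  have hEc : IsCyclic E := isCyclic_of_le hP
  have hEr : Nat.card E = r := by
    have h1 : Nat.card E ∣ r := by
      rw [← IsCyclic.exponent_eq_card]
      exact Monoid.exponent_dvd_of_forall_pow_eq_one fun x => Subtype.ext (hE x x.2)
    exact ((Nat.dvd_prime hr).1 h1).resolve_left fun h => h0 (card_eq_one.1 h)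
  obtain ⟨⟨x, hx⟩, hx1⟩ := ne_bot_iff_exists_ne_one.1 h0
  have hxo : orderOf x = r := orderOf_eq_prime (hE x hx) fun h => hx1 (Subtype.ext h)
  have hord := (S1159.result hm hF r).1 ⟨x, hxo⟩
  have hcyc := S1158.result hm hF
  have hconj := S2358.result hm hF r
  have hq8 := (ar hm).q8
  have hr2 : Nat.Coprime r 2 := (Nat.coprime_primes hr Nat.prime_two).2 (by omega)
  have hr3 : Nat.Coprime r 3 := (Nat.coprime_primes hr Nat.prime_three).2 (by omega)
  generalize 3 ^ (2 * m + 1) = q at *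
  generalize 3 ^ (m + 1) = s at *
  have key : ∀ k n : ℕ, (k, n) ∈ ({((q - 1) / 2, 2 * (q - 1)), ((q + 1) / 4, 6 * (q + 1)),
      (q - s + 1, 6 * (q - s + 1)), (q + s + 1, 6 * (q + s + 1))} : Set (ℕ × ℕ)) → r ∣ k →
      (r ∣ (q - 1) / 2 ∨ r ∣ (q + 1) / 4 ∨ r ∣ q - s + 1 ∨ r ∣ q + s + 1) →
      Nat.card (normalizer (E : Set ↥(twistedG2 F (3 ^ m)))) = n := by
    intro k n hkn hk hd
    obtain ⟨A, -, hAk, hAn, hA⟩ := hcyc _ hkn
    obtain ⟨y, hy⟩ := exists_prime_orderOf_dvd_card' (G := A) r (hAk ▸ hk)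
    have hy' : orderOf (y : ↥(twistedG2 F (3 ^ m))) = r := by rw [orderOf_coe, hy]
    have h1 : zpowers (y : ↥(twistedG2 F (3 ^ m))) ≠ ⊥ := fun h => by
      rw [zpowers_eq_bot.1 h, orderOf_one] at hy'
      omega
    obtain ⟨g, hg⟩ := hconj hd (zpowers (y : ↥(twistedG2 F (3 ^ m)))) E inferInstance hEc
      (by rw [Nat.card_zpowers, hy']) hEr
    rw [hg, ← map_equiv_normalizer_eq _ (MulAut.conj g)]
    refine (card_map_of_injective (MulAut.conj g).injective).trans ?_
    rw [hA _ (zpowers_le.2 y.2) h1, hAn]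
  have n1 : ¬ r ∣ 1 := fun h => hr.one_lt.ne' (Nat.dvd_one.1 h)
  rcases hord with h | h | h | h | h | h
  · exact absurd (hr2.dvd_of_dvd_mul_right (hr3.dvd_of_dvd_mul_right (show r ∣ 1 * 2 * 3 from h))) n1
  · exact absurd (hr3.dvd_of_dvd_mul_right (hr3.dvd_of_dvd_mul_right (show r ∣ 1 * 3 * 3 from h))) n1
  · have h1 : r ∣ (q - 1) / 2 := hr2.dvd_of_dvd_mul_right (by rwa [show (q - 1) / 2 * 2 = q - 1 by omega])
    exact Or.inl (key _ _ (by simp) h1 (Or.inl h1))
  · have h1 : r ∣ (q + 1) / 4 := hr2.dvd_of_dvd_mul_right (by rwa [show (q + 1) / 4 * 2 = (q + 1) / 2 by omega])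
    exact Or.inr (Or.inl (key _ _ (by simp) h1 (Or.inr (Or.inl h1))))
  · exact Or.inr (Or.inr (Or.inl (key _ _ (by simp) h (Or.inr (Or.inr (Or.inl h))))))
  · exact Or.inr (Or.inr (Or.inr (key _ _ (by simp) h (Or.inr (Or.inr (Or.inr h))))))

section

variable {K : Type} [Group K] [Finite K] {X : Subgroup K} {d m : ℕ}

/-- the local case -/
theorem loc_case (C : Ctx K m) (hN : Nrm K (3 ^ (2 * m + 1)) (3 ^ (m + 1))) (L : Gen.Loc X d) (hn : 3 ∣ X.index)
    {E : Subgroup K} {r : ℕ} (hr : r.Prime) (h3 : r ≠ 3) (h0 : E ≠ ⊥) (hE : ∀ x ∈ E, x ^ r = 1)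
    (hX : normalizer (E : Set K) = X) : False := by
  by_cases h2 : r = 2
  · subst h2
    exact loc_two C L hn h0 hE hX
  have h5 : 5 ≤ r := hr.five_le_of_ne_two_of_ne_three h2 h3
  have A := ar C.hm
  have h6 := A.q27
  have h7 := A.sle
  have h8 := hN E r hr h5 h0 hE
  rw [hX] at h8
  rcases h8 with h | h | h | h
  · exact c2 C L h
  · exact c3' C L hn (b := 2 * (3 ^ (2 * m + 1) + 1)) (by rw [h]; ring) (by omega)
  · exact c3' C L hn (b := 2 * (3 ^ (2 * m + 1) - 3 ^ (m + 1) + 1)) (by rw [h]; ring) (by omega)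
  · exact c3' C L hn (b := 2 * (3 ^ (2 * m + 1) + 3 ^ (m + 1) + 1)) (by rw [h]; ring) (by omega)

/-- `PSL₂(13)` is not a subgroup of the Ree group over the field with `27` elements -/
theorem not_1092 (hN : Nrm K 27 9) {N : Subgroup K} (h : Nat.card N = 1092) : False := by
  have f13 : Fact (Nat.Prime 13) := ⟨by norm_num⟩
  obtain ⟨P⟩ : Nonempty (Sylow 13 N) := inferInstance
  have h1 := card_sylow_modEq_one 13 N
  rw [P.card_eq_index_normalizer] at h1
  have h2 := (normalizer ((P : Subgroup N) : Set N)).card_mul_index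
  have h3 : Nat.card (normalizer ((P : Subgroup N) : Set N)) ∣
      Nat.card (normalizer (((P : Subgroup N).map N.subtype : Subgroup K) : Set K)) := by
    rw [← card_map_of_injective (f := N.subtype) N.subtype_injective]
    exact card_dvd_of_le (le_normalizer_map _)
  have h4 := hN ((P : Subgroup N).map N.subtype) 13 (by norm_num) (by norm_num) (fun h0 => by
    rw [map_eq_bot_iff_of_injective _ N.subtype_injective] at h0
    exact P.not_dvd_index (by rw [h0, index_bot, h]; norm_num)) (by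
    rintro _ ⟨x, hx, rfl⟩
    obtain ⟨k, hk⟩ := P.isPGroup' ⟨x, hx⟩
    have h5 : orderOf x ∣ 13 ^ k := orderOf_dvd_of_pow_eq_one (congrArg Subtype.val hk)
    have h6 : orderOf x ∣ 13 * 84 := by
      have := orderOf_dvd_natCard x
      rwa [h] at this
    have h7 : Nat.Coprime (orderOf x) 84 := ((by norm_num : Nat.Coprime 13 84).pow_left k).coprime_dvd_left h5
    rw [← map_pow, orderOf_dvd_iff_pow_eq_one.1 (h7.dvd_of_dvd_mul_right h6), map_one])
  rw [h] at h2
  generalize Nat.card (normalizer ((P : Subgroup N) : Set N)) = a at *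
  generalize (normalizer ((P : Subgroup N) : Set N)).index = b at *
  have h5 : 39 ∣ a := by
    have h6 : b ∈ Nat.divisors 1092 := Nat.mem_divisors.2 ⟨Dvd.intro_left a h2, by norm_num⟩
    have h7 : ∀ b ∈ Nat.divisors 1092, b % 13 = 1 → b = 1 ∨ b = 14 := by decide +kernel
    rcases h7 b h6 h1 with rfl | rfl <;> omega
  have h6 := h5.trans h3
  omega

/-- the almost simple case -/
theorem sim_case (C : Ctx K m) (hN : Nrm K (3 ^ (2 * m + 1)) (3 ^ (m + 1))) (L : Gen.Loc X d) (hn : 3 ∣ X.index)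
    {N : Subgroup K} (hle : N ≤ X) (hX : X ≤ normalizer (N : Set K)) (hs : IsSimpleGroup N)
    (hc : ¬ IsMulCommutative N) (hcent : ∀ t, (∀ x ∈ N, t * x = x * t) → t = 1) : IsLieTypeChar 3 N := by
  have f2 : Fact (Nat.Prime 2) := ⟨Nat.prime_two⟩
  have A := ar C.hm
  have hq := A.q27
  have hNK : Nat.card N ∣ Nat.card K := card_subgroup_dvd_card N
  have hNX : Nat.card N ∣ Nat.card X := card_dvd_of_le hle
  have hXA : Nat.card X ∣ Nat.card (MulAut N) :=
    card_dvd_of_injective (N.normalizerMonoidHom.comp (inclusion hX)) (by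
      rw [injective_iff_map_eq_one]
      intro t ht
      refine Subtype.ext (hcent t fun x hx => ?_)
      have h1 := congrArg (fun σ : MulAut N => ((σ ⟨x, hx⟩ : N) : K)) ht
      exact mul_inv_eq_iff_eq_mul.1 h1)
  have hcomm : ∀ Q : Sylow 2 N, ∀ a ∈ (Q : Subgroup N), ∀ b ∈ (Q : Subgroup N), a * b = b * a := by
    intro Q x hx y hy
    have h1 : ∀ z ∈ (Q : Subgroup N), z⁻¹ = z := fun z hz =>
      inv_eq_of_mul_eq_one_left (Subtype.ext (two_sq C (Q.isPGroup'.map N.subtype) _ ⟨z, hz, rfl⟩))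
    have h2 := h1 _ (Q.mul_mem hx hy)
    rw [mul_inv_rev, h1 _ hx, h1 _ hy] at h2
    exact h2.symm
  have n5 : ¬ 5 ∣ Nat.card N := fun h => not5 C (h.trans hNK)
  rcases H478.WalterAll.iso_of_abelian hc default (hcomm _) with
    ⟨F, _, _, b, hb, hF, ⟨e⟩⟩ | ⟨F, _, _, hF, hF5, ⟨e⟩⟩ | h | ⟨⟨e⟩⟩
  · exfalso
    have h1 := SmallSimple.PSLTwoPart.card_psl_two_even (F := F)
      (by rw [hF]; exact (Nat.even_pow.2 ⟨even_two, by omega⟩))
    rw [← Nat.card_congr e.toEquiv, hF] at h1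
    have hb3 : b ≤ 3 := by
      by_contra hb3
      exact not16 C (((pow_dvd_pow 2 (by omega : 4 ≤ b)).trans (h1 ▸ Nat.dvd_mul_right _ _)).trans hNK)
    have h2 := H781.Cov9.card_mulAut_psl Nat.prime_two (by omega) hF
      (le_trans (by norm_num) (Nat.pow_le_pow_right (by norm_num) hb))
    rw [← Nat.card_congr (MulAut.congr e).toEquiv] at h2
    interval_cases b
    · exact n5 (by rw [h1]; norm_num)
    · exact c3 C L hn (Dvd.dvd.trans (by rw [h1]; norm_num) hNX) (k := 3) (b := 56) (by rwa [h2] at hXA) (by norm_num)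
        (sq_le hq (by omega))
  · obtain ⟨p, hp⟩ := CharP.exists F
    obtain ⟨⟨f, hf⟩, hpp, hpf⟩ := FiniteField.card F p
    by_cases h3 : p = 3
    · subst h3
      exact Or.inl ⟨F, inferInstance, inferInstance, hp, 2, le_rfl, fun _ => by omega, ⟨e⟩⟩
    exfalso
    have h2 : p ≠ 2 := by
      rintro rfl
      have h4 : 2 ∣ Fintype.card F := hpf ▸ dvd_pow_self 2 hf.ne'
      omega
    have h13 := C.psl F p hpp (hpp.five_le_of_ne_two_of_ne_three h2 h3) (N.subtype.comp e.symm.toMonoidHom)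
      (N.subtype_injective.comp e.symm.injective)
    have h1 := SmallSimple.PSLTwoPart.card_psl_two_odd (F := F) (by rw [Nat.odd_iff]; omega)
    rw [← Nat.card_congr e.toEquiv] at h1
    have h4 : Fintype.card F = 5 ∨ Fintype.card F = 11 ∨ Fintype.card F = 13 := by omega
    rcases h4 with h4 | h4 | h4 <;> rw [h4] at h1
    · omega
    · omega
    have h5 := H781.Cov9.card_mulAut_psl (K := F) (p := 13) (f := 1) (by norm_num) le_rfl h4 (by norm_num)
    rw [← Nat.card_congr (MulAut.congr e).toEquiv] at h5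
    have h6 : Nat.card N = 1092 := by omega
    rcases C.hm.eq_or_lt with h7 | h7
    · subst h7
      exact not_1092 hN h6
    · refine c3 C L hn (Dvd.dvd.trans (by rw [h6]; norm_num) hNX) (k := 1) (b := 728) (by rwa [h5] at hXA)
        (by norm_num) (sq_le hq ?_)
      have h8 : 3 ^ 5 ≤ 3 ^ (2 * m + 1) := Nat.pow_le_pow_right (by norm_num) (by omega)
      omega
  · exact Or.inr (Or.inr (Or.inr (Or.inr (Or.inr (Or.inr (Or.inr (Or.inr (Or.inr (Or.inr ⟨rfl, h⟩)))))))))
  · refine absurd ?_ n5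
    rw [Nat.card_congr e.toEquiv, SporRec.J1.Words.card_J1]
    norm_num

end

theorem not_comm_sub {G : Type} [Group G] {T N : Subgroup G} (h : N ≤ T) (hc : ¬ IsMulCommutative N) :
    ¬ IsMulCommutative (N.subgroupOf T) := fun h1 => hc ⟨⟨fun a b => (subgroupOfEquivOfLe h).symm.injective (by
  rw [map_mul, map_mul]
  exact h1.is_comm.comm _ _)⟩⟩

/-- **the small Ree groups** -/
theorem boxRee : BoxRee := by
  rintro - G _ _ T H m p c ho ⟨rfl, F, _, _, l, hl, hF, ⟨e⟩⟩
  have C := H963.ReeFive.ctx_of_equiv hl hF e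
  have hN := (nrm_model hl hF).of_equiv e
  have L := Gen.loc c.as c.half
  have hn : 3 ∣ (H.subgroupOf T).index := Gen.index_eq c.as c.half ▸ c.dvd_index
  rcases boxTri G T H m c.as c.half with ⟨E, r, h⟩ | ⟨N, h⟩ | ⟨𝓢, h⟩
  · refine loc_case C hN L hn (E := E.subgroupOf T) h.prime (c.ne_of_loc h) (fun h0 => h.ne_bot ?_)
      (fun x hx => Subtype.ext (h.pow x hx)) ?_
    · rwa [subgroupOf_eq_bot, disjoint_iff, inf_eq_left.2 h.le_S] at h0
    · rw [← h.norm, subgroupOf_normalizer_eq h.le_S]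
  · have hT : N ≤ T := h.le.trans inf_le_right
    have hs := h.simple
    refine ho (Cl.Cases.hasOwn_of (h.le.trans inf_le_left) h.nrm h.simple h.nonab ?_)
    have h1 := sim_case C hN L hn (N := N.subgroupOf T) (fun x hx => (h.le hx).1)
      (le_normalizer_of_conj fun a ha x hx => h.nrm a ha x hx) (subgroupOfEquivOfLe hT).isSimpleGroup
      (not_comm_sub hT h.nonab) fun t ht => Subtype.ext (h.cent t t.2 fun x hx =>
        congrArg Subtype.val (ht ⟨x, hT hx⟩ hx))
    exact OddHalf.Known.isLieTypeChar_congr (subgroupOfEquivOfLe hT) h1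
  · obtain ⟨S, hS, S', hS', hne⟩ := h.two
    have hT : ∀ S ∈ 𝓢, S ≤ T := fun S hS => (h.le S hS).trans inf_le_right
    have h1 := h.simple S hS
    have h2 := h.simple S' hS'
    exact no_two C (subgroupOfEquivOfLe (hT S hS)).isSimpleGroup (subgroupOfEquivOfLe (hT S' hS')).isSimpleGroup
      (not_comm_sub (hT S hS) (h.nonab S hS)) (not_comm_sub (hT S' hS') (h.nonab S' hS'))
      fun x hx y hy => Subtype.ext (h.comm S hS S' hS' hne x hx y hy)

end Cfsg.Agent.TH.Ex.R1
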