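import Cfsg.Agent.TH.GenSyl
import Cfsg.Agent.TH.Uni
import Cfsg.Agent.H963.ReeFive
import Cfsg.Agent.H781.Cov9.Res

/-!
# S3541, the small Ree groups: counting inside the socle (helper93)
-/

set_option autoImplicit false
set_option linter.unusedSectionVars false

namespace Cfsg.Agent.TH.Ex.R1

open Subgroup Cfsg.Agent.H963.ReeCtx Cfsg.Agent.H963.ReeSep

variable {K : Type} [Group K] [Finite K] {X : Subgroup K} {d m : ℕ}

/-- counting by double cosets -/
theorem dcount {R B : Subgroup K} (hB : R ≤ B) (h : ∀ g, ∃ b ∈ X, ∃ s ∈ B, ∃ c ∈ X, g = b * s * c) :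
    Nat.card K ≤ R.relIndex X ^ 2 * Nat.card B := by
  have h1 : Nat.card K ≤ Nat.card ((X ⧸ R.subgroupOf X) × (X ⧸ R.subgroupOf X) × B) := by
    refine Nat.card_le_card_of_surjective (fun z => ((z.1.out : X) : K) * z.2.2 * ((z.2.1.out : X) : K)⁻¹) fun g => ?_
    obtain ⟨b, hb, s, hs, c, hc, rfl⟩ := h g
    obtain ⟨h1, e1⟩ := QuotientGroup.mk_out_eq_mul (R.subgroupOf X) ⟨b, hb⟩
    obtain ⟨h2, e2⟩ := QuotientGroup.mk_out_eq_mul (R.subgroupOf X) ⟨c⁻¹, inv_mem hc⟩
    refine ⟨(QuotientGroup.mk ⟨b, hb⟩, QuotientGroup.mk ⟨c⁻¹, inv_mem hc⟩,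
      ⟨((h1 : X) : K)⁻¹ * s * ((h2 : X) : K), mul_mem (mul_mem (inv_mem (hB h1.2)) hs) (hB h2.2)⟩), ?_⟩
    simp only [e1, e2, coe_mul]
    group
  rw [Nat.card_prod, Nat.card_prod] at h1
  exact h1.trans (le_of_eq (by rw [sq, mul_assoc]; rfl))

theorem card_inf_mul (A B : Subgroup K) : Nat.card ↥(A ⊓ B) * B.relIndex A = Nat.card A := by
  rw [← inf_relIndex_left, ← Nat.card_congr (subgroupOfEquivOfLe (inf_le_left : A ⊓ B ≤ A)).toEquiv]
  exact card_mul_index _

theorem not_dvd_rel (h : Gen.Loc X d) {r : ℕ} (hr : r.Prime) (hn : r ∣ X.index) (g : K) :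
    ¬ r ∣ (cj g X).relIndex X := by
  by_cases hg : g ∈ X
  · rw [cj_of_mem hg, relIndex_self]
    exact hr.one_lt.ne' ∘ Nat.dvd_one.1
  obtain ⟨e, he, he'⟩ := h.sub_dvd g hg
  have h2 := card_inf_mul X (cj g X)
  rw [← he', mul_comm] at h2
  rw [Nat.eq_of_mul_eq_mul_right Nat.card_pos h2]
  exact fun h3 => h.not_dvd hr hn (h3.trans he)

theorem arith_le {q s n : ℕ} (A : Ar q s) (h : n ∣ q ^ 3 * (q - 1) ∨ n ∣ 2 * (q - 1) ∨ n ∣ 6 * (q + 1) ∨
    n ∣ 6 * (q - s + 1) ∨ n ∣ 6 * (q + s + 1)) : n ≤ q ^ 3 * (q - 1) := by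
  have h1 := A.q27
  have h2 := A.sle
  have h3 : 27 ^ 3 ≤ q ^ 3 := Nat.pow_le_pow_left h1 3
  have h4 : 27 ^ 3 * (q - 1) ≤ q ^ 3 * (q - 1) := Nat.mul_le_mul_right _ h3
  rcases h with h | h | h | h | h
  · exact Nat.le_of_dvd (by omega) h
  all_goals have := Nat.le_of_dvd (by omega) h; omega

/-- the count with the Sylow `3`-subgroups -/
theorem c3 (C : Ctx K m) (L : Gen.Loc X d) (hn : 3 ∣ X.index) (h3 : 3 ∣ Nat.card X) {k b : ℕ}
    (hX : Nat.card X ∣ 3 ^ k * b) (hb0 : 0 < b) (hb : b ^ 2 ≤ (3 ^ (2 * m + 1)) ^ 3) : False := by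
  have f3 : Fact (Nat.Prime 3) := ⟨Nat.prime_three⟩
  obtain ⟨R₀⟩ : Nonempty (Sylow 3 X) := inferInstance
  set R : Subgroup K := (R₀ : Subgroup X).map X.subtype with hR
  have hRX : R ≤ X := map_subtype_le _
  have hRp : IsPGroup 3 R := R₀.isPGroup'.map _
  have hidx : R.relIndex X = (R₀ : Subgroup X).index := by
    rw [hR, relIndex, subgroupOf, comap_map_eq_self_of_injective X.subtype_injective]
  have hρ : ¬ 3 ∣ R.relIndex X := hidx ▸ R₀.not_dvd_index
  have hR0 : R ≠ ⊥ := fun h0 => hρ (by rwa [h0, relIndex_bot_left])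
  have h1 := dcount (X := X) (R := R) (B := normalizer (R : Set K)) le_normalizer fun g => by
    obtain ⟨b, hb, h1⟩ := exists_cj_le_of_relIndex (not_dvd_rel L Nat.prime_three hn g) hRp hRX
    have h2 : cj (g⁻¹ * b) R ≤ X := by rwa [cj_mul, cj_le_iff, inv_inv]
    obtain ⟨c, hc, h4⟩ := exists_cj_le_of_relIndex hρ (hRp.map (MulAut.conj (g⁻¹ * b)).toMonoidHom) h2
    change cj c (cj (g⁻¹ * b) R) ≤ R at h4
    rw [← cj_mul] at h4
    refine ⟨b, hb, (c * (g⁻¹ * b))⁻¹, inv_mem (mem_normalizer_fintype fun x hx => h4 ⟨x, hx, rfl⟩), c, hc, by group⟩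
  have h2 := arith_le (ar C.hm) (C.odd (normalizer (R : Set K)) R 3 Nat.prime_three (by norm_num) hRp hR0
    fun g hg x hx => (mem_normalizer_iff''.1 hg x).1 hx)
  have h4 : R.relIndex X ∣ b := by
    refine Nat.Coprime.dvd_of_dvd_mul_left ?_ ((relIndex_dvd_card R X).trans hX)
    exact (((Nat.Prime.coprime_iff_not_dvd Nat.prime_three).2 hρ).symm).pow_right k
  have h5 : R.relIndex X ^ 2 ≤ (3 ^ (2 * m + 1)) ^ 3 := (Nat.pow_le_pow_left (Nat.le_of_dvd hb0 h4) 2).trans hb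
  have h6 := (ar C.hm).q27
  rw [C.card_G] at h1
  generalize 3 ^ (2 * m + 1) = q at *
  have h7 : 0 < q ^ 3 * (q - 1) := Nat.mul_pos (by positivity) (by omega)
  have h8 := h1.trans (Nat.mul_le_mul h5 h2)
  nlinarith

theorem sq_le {q b : ℕ} (hq : 27 ≤ q) (hb : b ≤ 5 * q) : b ^ 2 ≤ q ^ 3 :=
  calc b ^ 2 ≤ (5 * q) ^ 2 := Nat.pow_le_pow_left hb 2
    _ = 25 * q ^ 2 := by ring
    _ ≤ q * q ^ 2 := Nat.mul_le_mul_right _ (by omega)
    _ = q ^ 3 := by ring

theorem c3' (C : Ctx K m) (L : Gen.Loc X d) (hn : 3 ∣ X.index) {b : ℕ} (hX : Nat.card X = 3 * b)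
    (hb : b ≤ 5 * 3 ^ (2 * m + 1)) : False :=
  c3 C L hn (hX ▸ dvd_mul_right 3 b) (k := 1) (b := b) (by rw [hX, pow_one])
    (Nat.pos_of_ne_zero fun h => by rw [h] at hX; exact Nat.card_pos.ne' hX) (sq_le (ar C.hm).q27 hb)

/-- the count with the involutions -/
theorem c2 (C : Ctx K m) (L : Gen.Loc X d) (hX : Nat.card X = 2 * (3 ^ (2 * m + 1) - 1)) : False := by
  have f2 : Fact (Nat.Prime 2) := ⟨Nat.prime_two⟩
  have A := ar C.hm
  have hn : 2 ∣ X.index := by
    have h1 := card_sylow_dvd C.card2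
    rw [← X.card_mul_index, hX] at h1
    have h2 := A.q8
    by_contra h3
    have h4 : Nat.Coprime 8 X.index := ((Nat.Prime.coprime_iff_not_dvd Nat.prime_two).2 h3).pow_left 3
    have h5 := h4.dvd_of_dvd_mul_right h1
    clear h1 hX
    generalize 3 ^ (2 * m + 1) = q at *
    omega
  have h1 := Gen.pair_count (K := K) Set.univ {u | u ∈ X ∧ u ≠ 1 ∧ u * u = 1} X
    (c := 3 ^ (2 * m + 1) * ((3 ^ (2 * m + 1)) ^ 2 - 1)) (fun u hu => (C.cardC u hu.2.1 hu.2.2).le) fun g _ => by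
    obtain ⟨P, hP⟩ := L.good_of_index hn g
    have h2 : (P : Subgroup X) ≠ ⊥ := fun h0 => P.not_dvd_index (by rw [h0, index_bot, hX]; exact dvd_mul_right 2 _)
    obtain ⟨⟨u, hu⟩, hu1⟩ := ne_bot_iff_exists_ne_one.1 h2
    refine ⟨u, ⟨u.2, fun h => hu1 (Subtype.ext (Subtype.ext h)), ?_⟩, hP u hu⟩
    exact two_sq C (P.isPGroup'.map X.subtype) _ ⟨u, hu, rfl⟩
  have h2 : {u | u ∈ X ∧ u ≠ 1 ∧ u * u = 1}.ncard ≤ (X : Set K).ncard := Set.ncard_le_ncard fun _ h => h.1
  have h3 : (X : Set K).ncard = 2 * (3 ^ (2 * m + 1) - 1) := hX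
  rw [Set.ncard_univ, C.card_G, h3] at h1
  rw [h3] at h2
  have h4 := A.q27
  generalize 3 ^ (2 * m + 1) = q at *
  obtain ⟨t, rfl⟩ : ∃ t, q = t + 1 := ⟨q - 1, by omega⟩
  have h5 : (t + 1) ^ 2 - 1 = t * (t + 2) := by rw [show (t + 1) ^ 2 = t * (t + 2) + 1 by ring, Nat.add_sub_cancel]
  rw [h5, Nat.add_sub_cancel] at h1
  rw [Nat.add_sub_cancel] at h2
  have h6 := h1.trans (Nat.mul_le_mul_right _ (Nat.mul_le_mul_right _ h2))
  have h7 : (t + 1) * t * ((t + 1) ^ 2 * ((t + 1) ^ 3 + 1)) ≤ (t + 1) * t * (4 * t ^ 2 * (t + 2)) := by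
    calc _ = (t + 1) ^ 3 * t * ((t + 1) ^ 3 + 1) := by ring
      _ ≤ _ := h6
      _ = _ := by ring
  have h8 := Nat.le_of_mul_le_mul_left h7 (Nat.mul_pos (by omega) (by omega))
  have h9 : 4 * (t + 2) ≤ (t + 1) ^ 3 := by nlinarith [Nat.pow_le_pow_left h4 2]
  have h10 : t ^ 2 * (4 * (t + 2)) ≤ (t + 1) ^ 2 * (t + 1) ^ 3 :=
    Nat.mul_le_mul (Nat.pow_le_pow_left (by omega) 2) h9
  nlinarith [Nat.pos_of_ne_zero (show (t + 1) ^ 2 ≠ 0 by positivity)]

/-- the centraliser of an involution -/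
theorem cent_inv (C : Ctx K m) (L : Gen.Loc X d) (hn : 3 ∣ X.index) {t : K} (h1 : t ≠ 1) (h2 : t * t = 1)
    (hX : X = centralizer {t}) : False := by
  have f2 : Fact (Nat.Prime 2) := ⟨Nat.prime_two⟩
  have A := ar C.hm
  have hto : orderOf t = 2 := orderOf_eq_prime (by rw [sq, h2]) h1
  obtain ⟨P, hP⟩ := (Gen.isPGroup_zpowers (r := 2) (k := 1) (u := t) (by rw [pow_one, sq, h2])).exists_le_sylow
  have htP : t ∈ P := hP (mem_zpowers t)
  obtain ⟨s, hs, hst⟩ : ∃ s ∈ (P : Subgroup K), s ∉ zpowers t := by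
    by_contra h
    push Not at h
    have h3 := card_le_of_le (show (P : Subgroup K) ≤ zpowers t from h)
    rw [C.card2, Nat.card_zpowers, hto] at h3
    omega
  have hs1 : s ≠ 1 := fun h => hst (h ▸ one_mem _)
  have hs2 := C.sq P s hs
  have hso : orderOf s = 2 := orderOf_eq_prime (by rw [sq, hs2]) hs1
  have hc : t * s = s * t := by
    have h3 : s ∈ centralizer ((P : Subgroup K) : Set K) := (C.cent2 P).symm ▸ hs
    exact h3 t htP
  obtain ⟨g, hg⟩ := C.conj t s h1 h2 hs1 hs2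
  -- the four-group
  let V : Subgroup K :=
    { carrier := {1, t, s, t * s}
      one_mem' := Or.inl rfl
      mul_mem' := by
        have e1 : t * (t * s) = s := by rw [← mul_assoc, h2, one_mul]
        have e2 : s * (t * s) = t := by rw [hc, ← mul_assoc, hs2, one_mul]
        have e3 : t * s * t = s := by rw [mul_assoc, ← hc, e1]
        have e4 : t * s * s = t := by rw [mul_assoc, hs2, mul_one]
        have e5 : t * s * (t * s) = 1 := by rw [← mul_assoc, e3, hs2]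
        rintro a b (rfl | rfl | rfl | rfl) (rfl | rfl | rfl | rfl) <;>
          simp only [one_mul, mul_one, h2, hs2, ← hc, e1, e2, e3, e4, e5, Set.mem_insert_iff, Set.mem_singleton_iff,
            true_or, or_true]
      inv_mem' := by
        rintro a (rfl | rfl | rfl | rfl)
        · exact Or.inl inv_one
        · exact Or.inr (Or.inl (inv_eq_of_mul_eq_one_right h2))
        · exact Or.inr (Or.inr (Or.inl (inv_eq_of_mul_eq_one_right hs2)))
        · refine Or.inr (Or.inr (Or.inr (inv_eq_of_mul_eq_one_right ?_)))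
          rw [mul_assoc, ← mul_assoc _ t, ← hc, mul_assoc, hs2, mul_one, h2] }
  have hVP : V ≤ P := by
    rintro a (rfl | rfl | rfl | rfl)
    exacts [one_mem _, htP, hs, mul_mem htP hs]
  have hV : Nat.card V = 4 := by
    have n1 : s ≠ t := fun h => hst (h ▸ mem_zpowers _)
    have n2 : t * s ≠ 1 := fun h => n1 (by rw [← one_mul s, ← h2, mul_assoc, h, mul_one])
    have n3 : t * s ≠ t := fun h => hs1 (mul_left_cancel (h.trans (mul_one t).symm))
    have n4 : t * s ≠ s := fun h => h1 (mul_right_cancel (h.trans (one_mul s).symm))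
    change ({1, t, s, t * s} : Set K).ncard = 4
    rw [Set.ncard_insert_of_notMem (by simp [h1.symm, hs1.symm, n2.symm]),
      Set.ncard_insert_of_notMem (by simp [n1.symm, n3.symm]), Set.ncard_pair n4.symm]
  have h4 := C.four V hV fun x hx => C.sq P x (hVP hx)
  have h5 : X ⊓ cj g X ≤ normalizer (V : Set K) := by
    rintro x ⟨hx1, hx2⟩
    rw [hX] at hx1 hx2
    have a1 : x * t * x⁻¹ = t := by rw [mem_centralizer_singleton_iff.1 hx1, mul_inv_cancel_right]
    have a2 : x * s * x⁻¹ = s := by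
      have a3 := mem_centralizer_singleton_iff.1 (mem_cj.1 hx2)
      rw [← hg]
      calc x * (g * t * g⁻¹) * x⁻¹ = g * (g⁻¹ * x * g * t) * g⁻¹ * x⁻¹ := by group
        _ = g * t * g⁻¹ := by rw [a3]; group
    refine mem_normalizer_fintype ?_
    rintro a (rfl | rfl | rfl | rfl)
    · exact Or.inl (by group)
    · exact Or.inr (Or.inl a1)
    · exact Or.inr (Or.inr (Or.inl a2))
    · refine Or.inr (Or.inr (Or.inr ?_))
      calc x * (t * s) * x⁻¹ = (x * t * x⁻¹) * (x * s * x⁻¹) := by group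
        _ = t * s := by rw [a1, a2]
  have h6 := card_dvd_of_le h5
  have h7 := card_inf_mul X (cj g X)
  have h8 : 9 ∣ Nat.card X := by
    rw [hX, C.cardC t h1 h2]
    exact Dvd.dvd.mul_right (Nat.dvd_of_mod_eq_zero A.q9) _
  have h9 : Nat.Coprime 9 ((cj g X).relIndex X) :=
    ((Nat.Prime.coprime_iff_not_dvd Nat.prime_three).2 (not_dvd_rel L Nat.prime_three hn g)).pow_left 2
  have h10 := (h9.dvd_of_dvd_mul_right (h7 ▸ h8)).trans h6
  rw [h4] at h10
  have := A.q9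
  omega

/-- the normaliser of an elementary abelian `2`-subgroup -/
theorem loc_two (C : Ctx K m) (L : Gen.Loc X d) (hn : 3 ∣ X.index) {E : Subgroup K} (h0 : E ≠ ⊥)
    (hE : ∀ x ∈ E, x ^ 2 = 1) (hX : normalizer (E : Set K) = X) : False := by
  have f2 : Fact (Nat.Prime 2) := ⟨Nat.prime_two⟩
  have A := ar C.hm
  have hq := A.q27
  have hp : IsPGroup 2 E := fun x => ⟨1, Subtype.ext (by simpa using hE x x.2)⟩
  obtain ⟨P, hP⟩ := hp.exists_le_sylow
  have h1 := card_dvd_of_le hP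
  rw [C.card2] at h1
  have h2 : Nat.card E ≠ 1 := fun h => h0 (card_eq_one.1 h)
  have h3 : Nat.card E = 2 ∨ Nat.card E = 4 ∨ Nat.card E = 8 := by
    have h4 := Nat.le_of_dvd (by norm_num) h1
    generalize Nat.card E = n at *
    interval_cases n <;> omega
  rcases h3 with h3 | h3 | h3
  · obtain ⟨⟨t, ht⟩, ht1⟩ := ne_bot_iff_exists_ne_one.1 h0
    have ht1' : t ≠ 1 := fun h => ht1 (Subtype.ext h)
    have ht2 : t * t = 1 := by rw [← sq, hE t ht]
    have h4 : ∀ x ∈ E, x ≠ 1 → x = t := by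
      intro x hx hx1
      obtain ⟨y, -, hy⟩ := (Nat.card_eq_two_iff' (1 : E)).1 h3
      exact congrArg Subtype.val ((hy ⟨x, hx⟩ fun h => hx1 (congrArg Subtype.val h)).trans (hy ⟨t, ht⟩ ht1).symm)
    refine cent_inv C L hn ht1' ht2 (hX.symm.trans (le_antisymm (fun g hg => ?_) fun g hg => ?_))
    · have h5 := h4 _ ((mem_normalizer_iff.1 hg t).1 ht) fun h => ht1' (by
        rwa [mul_inv_eq_one, mul_eq_left] at h)
      rw [mem_centralizer_singleton_iff]
      exact mul_inv_eq_iff_eq_mul.1 h5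
    · refine mem_normalizer_fintype fun x hx => ?_
      by_cases hx1 : x = 1
      · rw [hx1, mul_one, mul_inv_cancel]
        exact one_mem E
      · rw [h4 x hx hx1, mem_centralizer_singleton_iff.1 hg, mul_inv_cancel_right]
        exact ht
  · refine c3' C L hn (b := 2 * (3 ^ (2 * m + 1) + 1)) ?_ (by omega)
    rw [← hX, C.four E h3 fun x hx => by rw [← sq, hE x hx]]
    ring
  · refine c3' C L hn (b := 56) ?_ (by omega)
    rw [← hX, eq_of_le_of_card_ge hP (by rw [h3, C.card2]), C.norm2]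

/-- two commuting simple subgroups -/
theorem no_two (C : Ctx K m) {S S' : Subgroup K} (hS : IsSimpleGroup S) (hS' : IsSimpleGroup S')
    (hc : ¬ IsMulCommutative S) (hc' : ¬ IsMulCommutative S') (h : ∀ x ∈ S, ∀ y ∈ S', x * y = y * x) : False := by
  have h1 := (cand_of_simple C H963.ReeFive.kinds hc S.subtype S.subtype_injective).2
  have h2 := (cand_of_simple C H963.ReeFive.kinds hc' S'.subtype S'.subtype_injective).2
  have h3 := card_dvd_of_injective (S.subtype.noncommCoprod S'.subtype fun a b => h a a.2 b b.2) (by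
    rw [injective_iff_map_eq_one]
    rintro ⟨a, b⟩ hab
    change (a : K) * b = 1 at hab
    have h4 : (a : K) = 1 := center_bot S hc a a.2 fun y hy => by
      rw [eq_inv_of_mul_eq_one_left hab]
      exact (h y hy _ (inv_mem b.2)).symm
    rw [h4, one_mul] at hab
    exact Prod.ext (Subtype.ext h4) (Subtype.ext hab))
  rw [Nat.card_prod] at h3
  exact not16 C ((Nat.mul_dvd_mul h1 h2).trans h3)

end Cfsg.Agent.TH.Ex.R1
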